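import Cfsg.Agent.Lib.Spor.Cos.Bst

/-!
Elements of a point stabiliser of the McLaughlin group acting on the suborbit of 112 points as the generators of
a unitary group act on lines.
-/

set_option autoImplicit false
set_option maxRecDepth 100000

namespace Cfsg.Agent.Fus.McLStab

open Cfsg.Agent.Spor.Cos

/-- The elements, as words. -/
def imgW : List (List Nat) := [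
  [4, 0, 3, 1, 4, 1, 4, 0, 2, 1, 4, 0, 2, 0, 4, 1, 4, 3, 0, 4, 0, 3, 1, 4, 1, 4, 0, 2, 1, 4, 0, 2, 0, 4, 1, 4, 3, 0, 2, 0, 4, 2, 1, 0, 4, 1, 4, 2, 1, 0, 4, 0, 3, 0, 3, 0, 4, 1, 3, 2, 1, 0, 3, 0, 4, 0, 2, 4, 3, 0, 2, 4, 2, 0, 4, 3, 0, 2, 0, 4, 0, 4, 0, 2, 4, 3, 0, 2, 4, 2, 0, 4, 3, 0, 2, 0, 4, 3, 0, 3, 0, 4, 2, 4, 0, 2, 4, 3, 0, 4, 3, 2, 1, 4, 0, 4, 0, 3, 1, 4, 1, 4, 0, 2, 1, 4, 0, 2, 0, 4, 1, 4, 3, 0, 2, 0, 4, 2, 1, 0, 4, 1, 4, 2, 1, 0, 4, 0, 3, 0, 3, 0, 4, 1, 3, 2, 1, 0, 1, 0, 4, 1, 3, 0, 2, 4, 0, 4, 2, 0, 3, 1, 4, 1, 0, 4, 0, 3, 1, 4, 1, 4, 0, 2, 1, 4, 0, 2, 0, 4, 1, 4, 3, 0],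
  [3, 0, 4, 0, 2, 4, 3, 0, 2, 4, 2, 0, 4, 3, 0, 2, 0, 4, 3, 0, 3, 0, 4, 2, 4, 0, 2, 4, 3, 0, 4, 3, 2, 1, 4, 0, 2, 0, 4, 2, 1, 0, 4, 1, 4, 2, 1, 0, 4, 0, 3, 0, 3, 0, 4, 1, 3, 2, 1, 0, 3, 0, 4, 0, 2, 4, 3, 0, 2, 4, 2, 0, 4, 3, 0, 2, 0, 4, 0, 4, 0, 2, 4, 3, 0, 2, 4, 2, 0, 4, 3, 0, 2, 0, 4, 3, 0, 3, 0, 4, 2, 4, 0, 2, 4, 3, 0, 4, 3, 2, 1, 4, 3, 0, 4, 2, 4, 0, 2, 4, 3, 0, 4, 3, 2, 1, 4, 0, 1, 0, 4, 1, 3, 0, 2, 4, 0, 4, 2, 0, 3, 1, 4, 1, 0, 4, 0, 3, 1, 4, 1, 4, 0, 2, 1, 4, 0, 2, 0, 4, 1, 4, 3, 0],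
  [4, 0, 3, 1, 4, 1, 4, 0, 2, 1, 4, 0, 2, 0, 4, 1, 4, 3, 0, 3, 0, 4, 0, 2, 4, 3, 0, 2, 4, 2, 0, 4, 3, 0, 2, 0, 4, 3, 1, 0, 4, 1, 3, 0, 2, 4, 0, 4, 2, 0, 3, 1, 4, 1, 0, 2, 0, 4, 2, 1, 0, 4, 1, 4, 2, 1, 0, 4, 0, 3, 0, 3, 0, 4, 1, 3, 2, 1, 0, 1, 0, 4, 1, 3, 0, 2, 4, 0, 4, 2, 0, 3, 1, 4, 1, 3, 0, 4, 2, 4, 0, 2, 4, 3, 0, 4, 3, 2, 1, 4, 0, 4, 0, 3, 1, 4, 1, 4, 0, 2, 1, 4, 0, 2, 0, 4, 1, 4, 0, 4, 2, 4, 0, 2, 4, 3, 0, 4, 3, 2, 1, 4, 3, 0, 4, 2, 4, 0, 2, 4, 3, 0, 4, 3, 2, 1, 4, 0, 4, 0, 3, 1, 4, 1, 4, 0, 2, 1, 4, 0, 2, 0, 4, 1, 4, 3, 0, 3, 0, 4, 0, 2, 4, 3, 0, 2, 4, 2, 0, 4, 3, 0, 2, 0, 4, 3]]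

/-- The points of the lines. -/
def embT : Tab := ⟨(.leaf 0x1600d100e9010d00a7008000af00ed009700e6008300bc0111008d00a90020006600fa00dc00a4009d001200e1002e010c00da010500f10042005300a800b300fb0072011000c100b5006800de00f400a50092001a00bf007d00e8010200fc00d3003600bd010600f9006000d000f700d60100008500ab0027007500ee00c600c2007600f000d7010a00f200e000c4006f005b00460089006700cc00ec0101003700bb0044008f005900f8010400d5010e00cb00e7009e00400056002a010f00d900e5006d00c5007f0049010800aa007000fd004b00a301120081007c0008), 16, 7⟩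

end Cfsg.Agent.Fus.McLStab
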