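import Cfsg.Agent.Lib.Fus.McLStab.Data
import Cfsg.Agent.Lib.Spor.Cos.McLOut.Rep
import Cfsg.Agent.Lib.Spor.UFourThree.Points
import Cfsg.Agent.Lib.Spor.UFourThree.TailTop
import Cfsg.Agent.S0283

/-!
The stabiliser of a point in the McLaughlin group is the unitary group `PSU₄(3)`: on the suborbit of 112 points
some of its elements act as the generators of the unitary group act on lines.
-/

set_option autoImplicit false
set_option maxRecDepth 100000
set_option maxHeartbeats 1000000

open Cfsg Cfsg.Agent.Spor Cfsg.Agent.Spor.Cos Leech McLOut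

namespace Cfsg.Agent.Fus.McLStab

/-- The vector of a point of the table. -/
def IsVec (k : ℕ) (v : leechLattice) : Prop := sqNorm (v : Vec) = 32 ∧ encV (v : Vec) = mclC.X k

theorem IsVec.step {k : ℕ} {v : leechLattice} (hv : IsVec k v) (hk : k < 275) {s : ℕ} (hs : s < 5) :
    IsVec (actA.im k s) ((McLOut.g s : Co0) • v) := by
  refine ⟨(co_norm _ v).trans hv.1, ?_⟩
  have hmem : opW.getD s [] ∈ opW := by
    have hs' : s < opW.length := by rw [show opW.length = 5 from rfl]; exact hs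
    rw [List.getD_eq_getElem _ _ hs']; exact List.getElem_mem _
  obtain ⟨hop, hwf⟩ := fixes_of_chk op_gens hmem
  have hp := List.all_eq_true.1 (act_img k hk) s (List.mem_range.2 (by exact hs))
  rw [Cos.force_eq, forceN_eq, appWF_eq] at hp
  have hp' := Nat.eq_of_beq_eq_true hp
  rw [← hv.2, appW_spec hop v (by rw [hv.1]; norm_num)] at hp'
  rw [show (McLOut.g s : Co0) = wordG (opW.getD s []) by rw [McLOut.g, genW, dif_pos hwf]]
  exact hp'

theorem IsVec.word {k : ℕ} {v : leechLattice} (hv : IsVec k v) (hk : k < 275) :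
    ∀ w : List ℕ, (∀ s ∈ w, s < 5) → IsVec (actA.go w k) (((ev McLOut.g w : ↥McLOut.H) : Co0) • v) ∧ actA.go w k < 275
  | [], _ => ⟨by simpa [ev, Act.go_nil] using hv, hk⟩
  | s :: w, h => by
    obtain ⟨h1, h2⟩ := IsVec.word hv hk w fun t ht => h t (List.mem_cons_of_mem _ ht)
    have hs : s < 5 := h s (List.mem_cons_self ..)
    rw [Act.go_cons, ev, Subgroup.coe_mul, mul_smul]
    refine ⟨h1.step h2 hs, ?_⟩
    have h3 := List.all_eq_true.1 (act_inv _ h2) s (List.mem_range.2 hs)
    rw [Cos.force_eq, Bool.and_eq_true] at h3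
    exact Nat.le_of_ble_eq_true h3.1

theorem IsVec.unique {k : ℕ} {v v' : leechLattice} (hv : IsVec k v) (hv' : IsVec k v') : v = v' :=
  Subtype.ext (encV_inj (small_of_norm (by rw [hv.1]; norm_num)) (small_of_norm (by rw [hv'.1]; norm_num))
    (hv.2.trans hv'.2.symm))

/-- The point of the base is a vector of the suborbit. -/
theorem exists_vec : ∃ v ∈ shellTwo ThreePairs.bU ThreePairs.bP 24 16, IsVec 4 v := by
  obtain ⟨hgC, hroot, hstart, -, hnodes, -, -, -⟩ := mcl_checks
  simp only [chkRoot, Bool.and_eq_true, decide_eq_true_eq, List.all_eq_true] at hroot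
  obtain ⟨f, hf, hfx⟩ := reach (x0 := ThreePairs.bE) ThreePairs.bE_mem.1 hstart hgC hnodes _ 4
    (by decide +kernel) rfl
  have hu : f • ThreePairs.bU = ThreePairs.bU :=
    hf _ (List.mem_cons_self ..) ThreePairs.bU (mkL_val _ _)
  have hp : f • ThreePairs.bP = ThreePairs.bP :=
    hf _ (List.mem_cons_of_mem _ (List.mem_cons_self ..)) ThreePairs.bP (mkL_val _ _)
  exact ⟨f • ThreePairs.bE, (smul_mem_shellTwo hu hp).2 ThreePairs.bE_mem,
    (co_norm f _).trans ThreePairs.bE_mem.1, hfx⟩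

/-- The vector. -/
noncomputable def v4 : leechLattice := exists_vec.choose

/-- Its stabiliser. -/
noncomputable abbrev K : Subgroup ↥McLOut.H := (MulAction.stabilizer Co0 v4).comap McLOut.H.subtype

theorem v4_mem : v4 ∈ shellTwo ThreePairs.bU ThreePairs.bP 24 16 := exists_vec.choose_spec.1

theorem card_K : Nat.card K = 3265920 := by
  have hle : MulAction.stabilizer Co0 ThreePairs.bU ⊓ MulAction.stabilizer Co0 ThreePairs.bP ⊓
      MulAction.stabilizer Co0 v4 ≤ McLOut.H := fun y hy => H_eq.symm ▸ hy.1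
  have hK : Nat.card K = Nat.card ↥(MulAction.stabilizer Co0 ThreePairs.bU ⊓
      MulAction.stabilizer Co0 ThreePairs.bP ⊓ MulAction.stabilizer Co0 v4) := by
    rw [← Nat.card_congr (Subgroup.subgroupOfEquivOfLe hle).toEquiv]
    congr 1
    have : (MulAction.stabilizer Co0 ThreePairs.bU ⊓ MulAction.stabilizer Co0 ThreePairs.bP ⊓
        MulAction.stabilizer Co0 v4).subgroupOf McLOut.H = K := by
      ext y
      exact ⟨fun hy => hy.2, fun hy => ⟨H_eq ▸ y.2, hy⟩⟩
    rw [this]
  obtain ⟨hn, ht⟩ := ThreePairs.thirds ThreePairs.bU_norm ThreePairs.bP_mem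
  have h := StabSimple.card_eq (MulAction.stabilizer Co0 ThreePairs.bU ⊓ MulAction.stabilizer Co0 ThreePairs.bP)
    v4 275 _ (by rw [orbit_shellTwo v4_mem ht, hn]) rfl
  rw [← H_eq, card_H, H_eq] at h
  rw [hK]
  omega

theorem o1_lt : ∀ w ∈ o1W, ∀ t ∈ w, t < 5 := by decide +kernel

theorem stab_le : stab pi base0 ≤ K := by
  rw [← stab_val]
  refine (Subgroup.closure_le _).2 ?_
  rintro _ ⟨w, hw, rfl⟩
  obtain ⟨h1, -⟩ := exists_vec.choose_spec.2.word (by norm_num) w (o1_lt w hw)
  have hgo : actA.go w 4 = 4 := by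
    have e := homA.apply_ev w (o1_lt w hw) base0
    have hm : ev McLOut.g w ∈ stab pi base0 := stab_val ▸ mem_val hw
    rw [mem_stab.1 hm] at e
    exact e.symm
  rw [hgo] at h1
  exact h1.unique exists_vec.choose_spec.2

/-- The check of an element against a generator. -/
noncomputable def chkImage (s : ℕ) : Bool :=
  (fun w : List ℕ => (w.all fun t => Nat.blt t 5) && Nat.beq (actA.go w 4) 4 &&
    (List.range 112).all fun p => Nat.beq (actA.go w (embT.at p)) (embT.at (UFourThree.actL.im p s)))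
    (imgW.getD s [])

theorem image_ok : ∀ s < 3, chkImage s = true := by decide +kernel

theorem emb_lt : ∀ p < 112, embT.at p < 275 := by decide +kernel

theorem emb_nodup : ((List.range 112).map fun p => embT.at p).Nodup := by decide +kernel

/-- A point of a line. -/
noncomputable def emb (p : Fin UFourThree.actL.N) : Fin actA.N := ⟨embT.at p, emb_lt p p.2⟩

theorem emb_injective : Function.Injective emb := fun p q e => Fin.ext
  (List.inj_on_of_nodup_map emb_nodup (List.mem_range.2 p.2) (List.mem_range.2 q.2) (congrArg Fin.val e))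

theorem moves_line : UFourThree.actL.im 0 0 ≠ 0 ∨ UFourThree.actL.im 1 0 ≠ 1 ∨ UFourThree.actL.im 2 0 ≠ 2 := by
  decide +kernel

theorem nonempty_G43 : Nonempty (UFourThree.G43 ≃* K) := by
  obtain ⟨θ, hθ⟩ := UFourThree.exists_homL
  have : IsSimpleGroup UFourThree.G43 := Cfsg.Agent.S0283.result (q := 3) UFourThree.K9.card_eq 4 (by norm_num)
    (by norm_num)
  have : Finite UFourThree.G43 := Nat.finite_of_card_ne_zero (by rw [UFourThree.card_G43]; norm_num)
  have θinj : Function.Injective θ := by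
    rw [← MonoidHom.ker_eq_bot_iff]
    refine (θ.normal_ker.eq_bot_or_eq_top).resolve_right fun htop => ?_
    have h1 : θ (UFourThree.gT 0) = 1 := MonoidHom.mem_ker.1 (htop ▸ Subgroup.mem_top _)
    rw [hθ.gen] at h1
    have h2 : ∀ p : Fin UFourThree.actL.N, UFourThree.actL.im p 0 = p := fun p => by
      rw [← UFourThree.actL.perm_apply hθ.inv (s := 0) (by decide) p, h1]; rfl
    rcases moves_line with h | h | h
    exacts [h (h2 ⟨0, by decide⟩), h (h2 ⟨1, by decide⟩), h (h2 ⟨2, by decide⟩)]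
  let Y : Subgroup (↥(stab pi base0) × UFourThree.G43) :=
    { carrier := {q | ∀ p, pi (q.1 : McLOut.H) (emb p) = emb (θ q.2 p)}
      one_mem' := fun p => by simp
      mul_mem' := fun {a b} ha hb p => by
        show pi ((a.1 : McLOut.H) * (b.1 : McLOut.H)) (emb p) = emb (θ (a.2 * b.2) p)
        rw [map_mul, map_mul, Equiv.Perm.mul_apply, Equiv.Perm.mul_apply, hb p, ha]
      inv_mem' := fun {a} ha p => by
        show pi ((a.1 : McLOut.H)⁻¹) (emb p) = emb (θ a.2⁻¹ p)
        rw [map_inv, map_inv, Equiv.Perm.inv_eq_iff_eq, ha]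
        simp }
  let f1 : Y →* ↥(stab pi base0) := (MonoidHom.fst _ _).comp Y.subtype
  let f2 : Y →* UFourThree.G43 := (MonoidHom.snd _ _).comp Y.subtype
  have hf1 : Function.Injective f1 := by
    intro a b e
    have e1 : (a.1).1 = (b.1).1 := e
    refine Subtype.ext (Prod.ext e1 (θinj (Equiv.ext fun p => emb_injective ?_)))
    rw [← a.2 p, ← b.2 p, e1]
  have hf2 : Function.Surjective f2 := by
    rw [← MonoidHom.range_eq_top, ← top_le_iff, ← UFourThree.gen, Subgroup.closure_le]
    rintro _ ⟨s, hs, rfl⟩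
    have h := image_ok s hs
    simp only [chkImage, Bool.and_eq_true, List.all_eq_true, List.mem_range] at h
    obtain ⟨⟨hl, h4⟩, himg⟩ := h
    have hl' : ∀ t ∈ imgW.getD s [], t < 5 := fun t ht => Nat.le_of_ble_eq_true (hl t ht)
    have hst : ev McLOut.g (imgW.getD s []) ∈ stab pi base0 :=
      mem_stab.2 (Fin.ext ((homA.apply_ev _ hl' base0).trans (Nat.eq_of_beq_eq_true h4)))
    refine ⟨⟨(⟨_, hst⟩, UFourThree.gT s), fun p => Fin.ext ?_⟩, rfl⟩
    show (pi (ev McLOut.g (imgW.getD s [])) (emb p) : ℕ) = _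
    rw [homA.apply_ev _ hl', hθ.gen]
    show _ = embT.at (UFourThree.actL.perm s p)
    rw [UFourThree.actL.perm_apply hθ.inv hs]
    exact Nat.eq_of_beq_eq_true (himg p p.2)
  have hK : Nat.card (stab pi base0) ≤ 3265920 := (Subgroup.card_le_of_le stab_le).trans card_K.le
  have hY1 : Nat.card Y ≤ Nat.card (stab pi base0) := Nat.card_le_card_of_injective f1 hf1
  have hY2 : 3265920 ≤ Nat.card Y := UFourThree.card_G43.symm.le.trans (Nat.card_le_card_of_surjective f2 hf2)
  have b1 : Function.Bijective f1 := (Nat.bijective_iff_injective_and_card f1).2 ⟨hf1, by omega⟩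
  have b2 : Function.Bijective f2 :=
    (Nat.bijective_iff_surjective_and_card f2).2 ⟨hf2, by rw [UFourThree.card_G43]; omega⟩
  have hst : stab pi base0 = K := Subgroup.eq_of_le_of_card_ge stab_le (by rw [card_K]; omega)
  exact ⟨(MulEquiv.ofBijective f2 b2).symm.trans ((MulEquiv.ofBijective f1 b1).trans (MulEquiv.subgroupCongr hst))⟩

theorem nonempty_stab {u v x : leechLattice} (hu : sqNorm (u : Vec) = 48) (hv : v ∈ shellOne u 24)
    (hx : x ∈ shellTwo u v 24 16) (F : Type) [Field F] [Fintype F] (hF : Fintype.card F = 9) :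
    Nonempty (↥(MulAction.stabilizer Co0 u ⊓ MulAction.stabilizer Co0 v ⊓ MulAction.stabilizer Co0 x) ≃*
      PSU 4 F 3) := by
  obtain ⟨h0, e1, e2⟩ := ThreePairs.to_pair hu hv
  obtain ⟨h, h1, h2, h3⟩ :=
    step_two e1 e2 (std_two mcl_checks (by decide +kernel) (by decide +kernel)).2 hx v4_mem
  obtain ⟨eF⟩ := UFourThree.exists_iso F hF
  obtain ⟨eK⟩ := nonempty_G43
  have hmem : ∀ y : Co0, y ∈ MulAction.stabilizer Co0 u ⊓ MulAction.stabilizer Co0 v ⊓ MulAction.stabilizer Co0 x ↔
      h * y * h⁻¹ ∈ MulAction.stabilizer Co0 ThreePairs.bU ⊓ MulAction.stabilizer Co0 ThreePairs.bP ⊓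
        MulAction.stabilizer Co0 v4 := fun y => by
    simp only [Subgroup.mem_inf, MulAction.mem_stabilizer_iff, mul_smul, ← h1, ← h2, ← h3, inv_smul_smul,
      smul_left_cancel_iff]
  have hH : ∀ y : Co0, y ∈ MulAction.stabilizer Co0 ThreePairs.bU ⊓ MulAction.stabilizer Co0 ThreePairs.bP ⊓
      MulAction.stabilizer Co0 v4 → y ∈ McLOut.H := fun y hy => H_eq.symm ▸ hy.1
  let e : ↥(MulAction.stabilizer Co0 u ⊓ MulAction.stabilizer Co0 v ⊓ MulAction.stabilizer Co0 x) ≃* ↥K :=
    { toFun := fun y => ⟨⟨h * y.1 * h⁻¹, hH _ ((hmem y.1).1 y.2)⟩, ((hmem y.1).1 y.2).2⟩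
      invFun := fun k => ⟨h⁻¹ * (k.1 : Co0) * h, (hmem _).2 (by
        rw [show h * (h⁻¹ * (k.1 : Co0) * h) * h⁻¹ = (k.1 : Co0) by group]
        exact ⟨H_eq ▸ k.1.2, k.2⟩)⟩
      left_inv := fun y => Subtype.ext (by show h⁻¹ * (h * y.1 * h⁻¹) * h = y.1; group)
      right_inv := fun k => Subtype.ext (Subtype.ext (by show h * (h⁻¹ * (k.1 : Co0) * h) * h⁻¹ = k.1; group))
      map_mul' := fun a b => Subtype.ext (Subtype.ext (by
        show h * (a.1 * b.1) * h⁻¹ = (h * a.1 * h⁻¹) * (h * b.1 * h⁻¹); group)) }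
  exact ⟨e.trans (eK.symm.trans eF)⟩

end Cfsg.Agent.Fus.McLStab
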